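import Groth.Agent.FlatCrit65.Blow.Strict
import Groth.Agent.FlatCrit65.Closed.Above
import Groth.Agent.FBase64.QuasiFlatOpen
import Mathlib

/-!
Flatness of strict transforms under base change, and its descent.
-/

set_option autoImplicit false
set_option linter.style.haveILetI false
set_option linter.unusedSectionVars false

universe u

open TensorProduct

noncomputable section

namespace Groth.Agent.FlatCrit65.Etale

open Blow

/-- A flat strict transform stays the strict transform after base change. -/
theorem flat_st_baseChange {A A' B B' : Type u} [CommRing A] [CommRing A'] [CommRing B] [CommRing B']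
    [Algebra A B] [Algebra A A'] [Algebra A B'] [Algebra B B'] [Algebra A' B']
    [IsScalarTower A B B'] [IsScalarTower A A' B'] [Algebra.IsPushout A A' B B']
    (a : A) (g : A') (hg : IsSMulRegular A' g) (hdvd : ∃ k : ℕ, algebraMap A A' a ∣ g ^ k)
    (M : Type u) [AddCommGroup M] [Module B M] [Module A M] [IsScalarTower A B M]
    (hflat : Module.Flat A (ST B (algebraMap A B a) M)) :
    Module.Flat A' (ST B' (algebraMap A' B' g) (B' ⊗[B] M)) := by
  classical
  haveI := hflat
  let Q := ST B (algebraMap A B a) M
  let Y := B' ⊗[B] Q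
  let e : Y ≃ₗ[A'] A' ⊗[A] Q := Algebra.IsPushout.cancelBaseChange A A' B B' Q
  haveI : Module.Flat A' Y := Module.Flat.of_linearEquiv e
  have hreg : IsSMulRegular Y (algebraMap A' B' g) := by
    intro x y hxy
    have h : IsSMulRegular (Y ⊗[A'] A') g := hg.lTensor Y
    have h' : IsSMulRegular Y g := (TensorProduct.rid A' Y).isSMulRegular_congr g |>.1 h
    exact h' (by simpa only [algebraMap_smul] using hxy)
  obtain ⟨k, c, hc⟩ := hdvd
  let π := (FlatCA.powTorsion B (algebraMap A B a) M).mkQ.baseChange B'
  have hπ : Function.Surjective π := LinearMap.lTensor_surjective B' (Submodule.mkQ_surjective _)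
  have hex := lTensor_exact B' (LinearMap.exact_subtype_mkQ (FlatCA.powTorsion B (algebraMap A B a) M))
    (Submodule.mkQ_surjective _)
  have hker : ∀ z, π z = 0 → ∃ n : ℕ, algebraMap A' B' g ^ n • z = 0 := by
    intro z hz
    obtain ⟨w, rfl⟩ := (hex z).1 hz
    clear hz
    induction w using TensorProduct.induction_on with
    | zero => exact ⟨0, by simp⟩
    | tmul l m =>
      obtain ⟨n, hn⟩ := (Fit14.mem_powTorsion (algebraMap A B a) (m : M)).1 m.2
      refine ⟨k * n, ?_⟩
      have hk : algebraMap A' B' g ^ (k * n) =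
          algebraMap A' B' c ^ n * algebraMap B B' (algebraMap A B a ^ n) := by
        rw [pow_mul, ← map_pow, hc, map_mul, mul_pow, mul_comm, ← IsScalarTower.algebraMap_apply A A' B',
          IsScalarTower.algebraMap_apply A B B', map_pow]
      have h0 : algebraMap B B' (algebraMap A B a ^ n) • (l ⊗ₜ[B] (m : M)) = 0 := by
        rw [algebraMap_smul, ← TensorProduct.tmul_smul, hn, TensorProduct.tmul_zero]
      rw [LinearMap.lTensor_tmul, Submodule.coe_subtype, hk, mul_smul, h0, smul_zero]
    | add x y hx hy =>
      obtain ⟨n, hn⟩ := hx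
      obtain ⟨l, hl⟩ := hy
      refine ⟨n + l, ?_⟩
      rw [map_add, smul_add]
      have h2 : algebraMap A' B' g ^ (n + l) • (FlatCA.powTorsion B (algebraMap A B a) M).subtype.lTensor B' y = 0 := by
        rw [pow_add, mul_smul, hl, smul_zero]
      rw [h2, add_zero, add_comm n l, pow_add, mul_smul, hn, smul_zero]
  obtain ⟨f⟩ := exists_equiv_st π hπ hker hreg
  exact Module.Flat.of_linearEquiv (f.restrictScalars A')

/-- Flatness at a point from flatness of the strict transform upstairs. -/
theorem flat_localized_of_st {A B A' B' : Type u} [CommRing A] [CommRing B] [CommRing A'] [CommRing B']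
    [Algebra A B] [Algebra A A'] [Algebra A B'] [Algebra B B'] [Algebra A' B']
    [IsScalarTower A B B'] [IsScalarTower A A' B'] [Module.Flat A A'] [Module.Flat B B']
    (g : A) (M : Type u) [AddCommGroup M] [Module B M]
    (Γ : Type u) [AddCommGroup Γ] [Module B Γ] [Module A Γ] [IsScalarTower A B Γ]
    (e : ST B (algebraMap A B g) M ≃ₗ[B] Γ)
    (N' : Type u) [AddCommGroup N'] [Module B' N'] (eN : N' ≃ₗ[B'] B' ⊗[B] M)
    [Module A' N'] [IsScalarTower A' B' N']
    (hflat : Module.Flat A' (ST B' (algebraMap A' B' (algebraMap A A' g)) N'))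
    (q : Ideal B') [q.IsPrime] :
    Module.Flat A (LocalizedModule (q.comap (algebraMap B B')).primeCompl Γ) := by
  have hgg : algebraMap A' B' (algebraMap A A' g) = algebraMap B B' (algebraMap A B g) := by
    rw [← IsScalarTower.algebraMap_apply, ← IsScalarTower.algebraMap_apply]
  obtain ⟨e₁⟩ := st_congr (s := algebraMap A' B' (algebraMap A A' g)) eN
  obtain ⟨e₂⟩ := st_baseChange (s := algebraMap A B g) (M := M) B'
  rw [hgg] at hflat e₁
  let e₃ : ST B' (algebraMap B B' (algebraMap A B g)) N' ≃ₗ[B'] B' ⊗[B] Γ :=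
    e₁ ≪≫ₗ e₂ ≪≫ₗ LinearEquiv.baseChange B B' _ _ e
  haveI : IsScalarTower A' B' (B' ⊗[B] Γ) := TensorProduct.isScalarTower_left
  haveI := hflat
  haveI : Module.Flat A' (B' ⊗[B] Γ) := Module.Flat.of_linearEquiv (e₃.restrictScalars A').symm
  haveI : IsScalarTower A A' (B' ⊗[B] Γ) := IsScalarTower.of_algebraMap_smul fun r x => by
    rw [← algebraMap_smul B' (algebraMap A A' r) x, ← IsScalarTower.algebraMap_apply, algebraMap_smul]
  haveI : Module.Flat A (B' ⊗[B] Γ) := Module.Flat.trans A A' _
  refine flat_localized_of_flat_tensor (A' := A) (B' := B) (C' := B') (M := Γ) q ?_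
  exact FBase64.QuasiFlatOpen.flat_localizedModule (A := A) q.primeCompl (B' ⊗[B] Γ)

end Groth.Agent.FlatCrit65.Etale
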