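import Groth.Agent.FlatCrit65.Blow.OpenImm
import Groth.Agent.FlatCrit65.Blow.StrictClosure
import Groth.Agent.Div89.BlowUp
import Groth.Agent.Div89.BlowDom
import Groth.Agent.MP99.AmbPullback
import Groth.Agent.LimTop61.Diag
import Groth.Agent.RegImm10.BlowModel
import Mathlib

/-!
A blow-up of an étale scheme over the base is dominated by the pull-back of an admissible blow-up of the base.
-/

set_option autoImplicit false
set_option linter.style.haveILetI false
set_option backward.isDefEq.respectTransparency.types false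

universe u

open CategoryTheory CategoryTheory.Limits AlgebraicGeometry TopologicalSpace

noncomputable section

namespace Groth.Agent.FlatCrit65.Etale

/-- A morphism to an unramified scheme is flat as soon as its composite is. -/
theorem flat_of_comp {X Y Z : Scheme.{u}} (f : X ⟶ Y) (g : Y ⟶ Z) [AlgebraicGeometry.Etale g] [Flat (f ≫ g)] : Flat f := by
  let γ : X ⟶ pullback (f ≫ g) g := pullback.lift (𝟙 X) f (Category.id_comp _)
  have hγ : IsPullback f γ (pullback.diagonal g) (pullback.map (f ≫ g) g g g f (𝟙 Y) (𝟙 Z) (by simp) (by simp)) := by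
    let m := pullback.map (f ≫ g) g g g f (𝟙 Y) (𝟙 Z) (by simp) (by simp)
    refine ⟨⟨pullback.hom_ext (by simp [γ, pullback.lift_fst, pullback.lift_fst_assoc])
      (by simp [γ, pullback.lift_snd])⟩, ⟨PullbackCone.IsLimit.mk _ (fun s => s.snd ≫ pullback.fst (f ≫ g) g)
        (fun s => ?_) (fun s => ?_) (fun s n h₁ h₂ => ?_)⟩⟩
    · have := congrArg (fun t => t ≫ pullback.fst g g) s.condition
      simp [pullback.map, pullback.lift_fst] at this
      simp [this]
    · have h1 := congrArg (fun t => t ≫ pullback.fst g g) s.condition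
      have h2 := congrArg (fun t => t ≫ pullback.snd g g) s.condition
      simp [pullback.map, pullback.lift_fst, pullback.lift_snd] at h1 h2
      apply pullback.hom_ext
      · simp [γ, pullback.lift_fst]
      · simp only [γ, Category.assoc, pullback.lift_snd]
        rw [← h1]
        exact h2
    · rw [← h₂]
      simp [γ, pullback.lift_fst]
  haveI : FormallyUnramified g := inferInstance
  haveI : IsOpenImmersion γ := MorphismProperty.of_isPullback hγ (inferInstance : IsOpenImmersion (pullback.diagonal g))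
  haveI : Flat (pullback.snd (f ≫ g) g) := inferInstance
  rw [show f = γ ≫ pullback.snd (f ≫ g) g from (pullback.lift_snd _ _ _).symm]
  infer_instance

/-- Blow-ups of an étale scheme are dominated. -/
theorem exists_dominating_etale {Y Ys S : Scheme.{u}} [CompactSpace S] [QuasiSeparatedSpace S]
    (e : Y ⟶ S) [AlgebraicGeometry.Etale e] [QuasiCompact e] (U : S.Opens) (hU : IsCompact (U : Set S))
    {b : Ys ⟶ Y} {I : Y.IdealSheafData} (hb : BlowUp.IsBlowUp b I) (hI : BlowUp.IsAdmissibleFor (e ⁻¹ᵁ U) I) :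
    ∃ (K : S.IdealSheafData) (S' : Scheme.{u}) (c : S' ⟶ S), BlowUp.IsBlowUp c K ∧ BlowUp.IsAdmissibleFor U K ∧
      (K.support : Set S) = (U : Set S)ᶜ ∧ ∃ h : pullback e c ⟶ Ys, h ≫ b = pullback.fst e c := by
  haveI : IsProper b := RegImm10.BlowModel.isProper_of_isBlowUp hI.1 hb
  haveI := Div89.isIso_off_center hb
  haveI hbU : IsIso (b ∣_ (e ⁻¹ᵁ U)) := MP99.isIso_restrict_of_le b (U := I.support.compl)
    (fun y hy h => Set.disjoint_left.1 hI.2 h hy)
  haveI : AlgebraicGeometry.Etale (e ∣_ U) := IsZariskiLocalAtTarget.restrict ‹_› U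
  haveI : AlgebraicGeometry.Etale ((b ≫ e) ∣_ U) := by
    rw [morphismRestrict_comp]
    haveI : AlgebraicGeometry.Etale (b ∣_ (e ⁻¹ᵁ U)) := inferInstance
    exact MorphismProperty.comp_mem (@AlgebraicGeometry.Etale) _ _ ‹_› ‹_›
  haveI : Flat ((b ≫ e) ∣_ U) := inferInstance
  haveI : LocallyOfFinitePresentation ((b ≫ e) ∣_ U) := inferInstance
  obtain ⟨K, S', c, hc, hK, hsupp, hflat⟩ := Blow.exists_flattening_scheme_exact_flat (b ≫ e) U hU
  refine ⟨K, S', c, hc, hK, hsupp, ?_⟩
  let T := pullback e c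
  let p₁ := pullback.fst (b ≫ e) c
  let ρ : pullback (b ≫ e) c ⟶ T :=
    pullback.lift (p₁ ≫ b) (pullback.snd (b ≫ e) c) (by rw [Category.assoc]; exact pullback.condition)
  have Hρ : IsPullback p₁ ρ b (pullback.fst e c) :=
    IsPullback.of_bot (v₂₁ := pullback.snd e c) (v₂₂ := e) (h₃₁ := c)
      (by simpa [ρ, p₁, pullback.lift_snd] using IsPullback.of_hasPullback (b ≫ e) c)
      (by simp [ρ, pullback.lift_fst]) (IsPullback.of_hasPullback e c)
  haveI : IsProper ρ := MorphismProperty.of_isPullback Hρ (inferInstance : IsProper b)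
  have hft : BlowUp.IsFiniteTypeIdeal ((K.comap (b ≫ e)).comap p₁) :=
    Div89.isFiniteTypeIdeal_comap _ (Div89.isFiniteTypeIdeal_comap _ hK.1)
  let 𝒥 := Blow.strictIdeal _ hft
  obtain ⟨hf, hlfp⟩ := hflat _ _ _ (IsPullback.of_hasPullback (b ≫ e) c) 𝒥 (Blow.strictIdeal_iff _ hft)
  let q := 𝒥.subschemeι ≫ ρ
  have hq : q ≫ pullback.snd e c = 𝒥.subschemeι ≫ pullback.snd (b ≫ e) c := by
    simp [q, ρ, pullback.lift_snd]
  haveI : Flat (q ≫ pullback.snd e c) := by rw [hq]; exact hf
  haveI : Flat q := flat_of_comp q (pullback.snd e c)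
  haveI : LocallyOfFinitePresentation (q ≫ pullback.snd e c) := by rw [hq]; exact hlfp
  haveI : LocallyOfFinitePresentation q := LimTop61.locallyOfFinitePresentation_of_comp q (pullback.snd e c)
  haveI : IsProper q := inferInstanceAs (IsProper (𝒥.subschemeι ≫ ρ))
  let E := (K.comap c).comap (pullback.snd e c)
  have hE : BlowUp.IsEffCartierIdeal E := Div89.isEffCartier_comap_of_flat (pullback.snd e c) hc.1
  let O : T.Opens := E.support.compl
  have hO : O ≤ pullback.fst e c ⁻¹ᵁ (e ⁻¹ᵁ U) := fun t ht => by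
    show e (pullback.fst e c t) ∈ (U : Set S)
    rw [← Scheme.Hom.comp_apply, pullback.condition, Scheme.Hom.comp_apply]
    by_contra h
    refine ht ?_
    show t ∈ E.support
    simp only [E, Scheme.IdealSheafData.support_comap]
    exact hsupp.ge h
  haveI h2 : IsIso (ρ ∣_ O) := Blow.isIso_baseChange_restrict Hρ hO
  haveI h1 : IsIso (𝒥.subschemeι ∣_ (ρ ⁻¹ᵁ O)) := by
    refine Blow.isIso_subschemeι_restrict 𝒥 _ fun V hV => ?_
    rw [eq_bot_iff]
    intro a ha
    obtain ⟨n, hn⟩ := (Blow.strictIdeal_iff _ hft V a).1 ha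
    have htop : ((K.comap (b ≫ e)).comap p₁).ideal V = ⊤ := by
      rw [← Ideal.radical_eq_top, eq_top_iff]
      intro r _
      refine Blow.mem_radical_of_disjoint _ (U := V.1) ?_ V.2 (Scheme.basicOpen_le _ r)
      have hexc : (K.comap (b ≫ e)).comap p₁ = E.comap ρ := by
        simp only [E, ← Scheme.IdealSheafData.comap_comp]
        congr 1
        simp [ρ, p₁, pullback.lift_snd_assoc, pullback.condition]
      rw [hexc, Set.disjoint_left]
      intro x hx hxV
      rw [Scheme.IdealSheafData.support_comap] at hx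
      exact hV hxV hx
    have h1 := hn 1 (by rw [Scheme.IdealSheafData.ideal_pow, Pi.pow_apply, htop, Ideal.top_pow]; trivial)
    change (1 : Γ(pullback (b ≫ e) c, V.1)) * a = 0 at h1
    rw [one_mul] at h1
    exact h1
  haveI hiso : IsIso (q ∣_ E.support.compl) := by
    rw [show q ∣_ E.support.compl = (𝒥.subschemeι ∣_ (ρ ⁻¹ᵁ O)) ≫ (ρ ∣_ O) from morphismRestrict_comp _ _ _]
    exact @IsIso.comp_isIso _ _ _ _ _ _ _ h1 h2
  haveI := Blow.mono_of_iso_off_cartier q E hE
  haveI : IsOpenImmersion q := IsOpenImmersion.of_flat_of_mono _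
  haveI : AlgebraicGeometry.Surjective q := ⟨fun y => by
    obtain ⟨hdom, haff⟩ := H98Strict.dominant_compl hE
    haveI : IsSchemeTheoreticallyDominant O.ι := hdom
    haveI : IsAffineHom O.ι := haff
    have hclosed : IsClosed (Set.range q) := q.isClosedMap.isClosed_range
    have hsub : (O : Set T) ⊆ Set.range q := fun x hx => by
      obtain ⟨z, hz⟩ := (q ∣_ O).homeomorph.surjective ⟨x, hx⟩
      exact ⟨(q ⁻¹ᵁ O).ι z, by
        rw [← Scheme.Hom.comp_apply, ← morphismRestrict_ι q O, Scheme.Hom.comp_apply]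
        exact congrArg Subtype.val hz⟩
    have hdense : Dense (O : Set T) := by
      have := (inferInstance : IsDominant O.ι).1
      rwa [DenseRange, Scheme.Opens.range_ι] at this
    have : Set.range q = Set.univ := by
      rw [← hclosed.closure_eq]
      exact Set.univ_subset_iff.1 (hdense.closure_eq ▸ closure_mono hsub)
    exact Set.range_eq_univ.1 this y⟩
  haveI : IsIso q := IsOpenImmersion.isIso q
  refine ⟨inv q ≫ 𝒥.subschemeι ≫ p₁, ?_⟩
  rw [Category.assoc, Category.assoc, IsIso.inv_comp_eq]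
  simp only [q, Category.assoc, ρ, pullback.lift_fst]

/-- One admissible blow-up of the base dominates finitely many blow-ups of étale schemes over it. -/
theorem exists_dominating_etale_family {S : Scheme.{u}} [CompactSpace S] [QuasiSeparatedSpace S]
    (U : S.Opens) (hU : IsCompact (U : Set S)) {k : ℕ} (Si Sst : Fin k → Scheme.{u}) (e : ∀ i, Si i ⟶ S)
    [∀ i, AlgebraicGeometry.Etale (e i)] [∀ i, QuasiCompact (e i)] (b : ∀ i, Sst i ⟶ Si i)
    (𝓘 : ∀ i, (Si i).IdealSheafData)
    (hb : ∀ i, BlowUp.IsBlowUp (b i) (𝓘 i) ∧ BlowUp.IsAdmissibleFor ((e i) ⁻¹ᵁ U) (𝓘 i)) :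
    ∃ (J : S.IdealSheafData) (S' : Scheme.{u}) (c : S' ⟶ S), BlowUp.IsBlowUp c J ∧ BlowUp.IsAdmissibleFor U J ∧
      (J.support : Set S) = (U : Set S)ᶜ ∧ ∀ i, ∃ h : pullback (e i) c ⟶ Sst i, h ≫ b i = pullback.fst (e i) c := by
  choose K Sd cd hcd hKadm hKsupp hd using fun i => exists_dominating_etale (e i) U hU (hb i).1 (hb i).2
  obtain ⟨J₀, X', c₀, hc₀, hJ₀, hdom⟩ := Div89.exists_admissible_dominating U Sd cd K hcd hKadm
  obtain ⟨𝓚, h𝓚, h𝓚supp⟩ := H98Strict.exists_ideal_support U hU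
  obtain ⟨S', c₁, hc₁⟩ := FBlow13.exists_isBlowUp_scheme X' (𝓚.comap c₀)
  have hsupp : ((J₀ * 𝓚).support : Set S) = (U : Set S)ᶜ := by
    rw [Scheme.IdealSheafData.support_mul, Closeds.coe_sup, h𝓚supp]
    exact Set.union_eq_right.2 hJ₀.2.subset_compl_right
  refine ⟨J₀ * 𝓚, S', c₁ ≫ c₀, Div89.isBlowUp_comp hc₀ hc₁,
    ⟨fun W => by rw [Scheme.IdealSheafData.ideal_mul]; exact (hJ₀.1 W).mul (h𝓚 W),
      by rw [hsupp]; exact disjoint_compl_left⟩, hsupp, fun i => ?_⟩
  obtain ⟨g, -, hg, -, -⟩ := hdom i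
  obtain ⟨h, hh⟩ := hd i
  let m : pullback (e i) (c₁ ≫ c₀) ⟶ pullback (e i) (cd i) :=
    pullback.map (e i) (c₁ ≫ c₀) (e i) (cd i) (𝟙 _) (c₁ ≫ g) (𝟙 S) (by simp) (by simp [hg])
  exact ⟨m ≫ h, by simp [m, hh, pullback.lift_fst]⟩

end Groth.Agent.FlatCrit65.Etale
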