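import Groth.Prelude.Def_BlowUp2
import Groth.Prelude.Def_Coh
import Groth.Agent.QC70.Closure
import Groth.Agent.QCPull72.Sections
import Groth.Agent.Div89.IdealExtend
import Mathlib

/-!
Strict transforms of quasi-coherent modules exist.
-/

set_option autoImplicit false
set_option linter.style.haveILetI false
set_option backward.isDefEq.respectTransparency.types false

universe u

open CategoryTheory CategoryTheory.Limits AlgebraicGeometry TopologicalSpace Opposite
open Groth.Agent.QC70

noncomputable section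

namespace Groth.Agent.FlatCrit65.Etale

/-- A section on an affine open vanishes off the support iff it is killed by a power of the ideal. -/
theorem killed_iff {X : Scheme.{u}} (E : X.IdealSheafData) (hE : BlowUp.IsFiniteTypeIdeal E) (P : X.Modules)
    [P.IsQuasicoherent] (V : X.affineOpens) (m : Γ(P, V.1)) {W : X.Opens} (hW : W ≤ V.1)
    (hWeq : ∀ x ∈ V.1, x ∈ W ↔ x ∉ E.support) :
    res P hW m = 0 ↔ BlowUp.KilledByPowerNear E P V m := by
  have hP := isLocAt_of_isQuasicoherent P V.2
  have hle : ∀ a ∈ E.ideal V, X.basicOpen a ≤ W := fun a ha x hx => by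
    refine (hWeq x (X.basicOpen_le a hx)).2 fun hs => ?_
    rw [Scheme.IdealSheafData.mem_support_iff] at hs
    exact (Scheme.mem_zeroLocus_iff _ _ _).1 (hs V) a ha hx
  constructor
  · intro h
    obtain ⟨t, ht⟩ := hE V
    have hpow : ∀ a ∈ t, ∃ n : ℕ, a ^ n • m = 0 := fun a ha => by
      refine hP.eq_zero_of a m ?_
      rw [← res_res hW (hle a (ht ▸ Ideal.subset_span ha)) m, h, res_zero]
    choose n hn using hpow
    let N := (t.attach.sum fun a => n a.1 a.2) + 1
    obtain ⟨k, hk⟩ : ∃ k : ℕ, (E.ideal V) ^ k ≤ Ideal.span ((fun a => a ^ N) '' (t : Set Γ(X, V.1))) := by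
      refine Ideal.exists_pow_le_of_le_radical_of_fg ?_ (hE V)
      rw [← ht, Ideal.span_le]
      exact fun a ha => ⟨N, Ideal.subset_span ⟨a, ha, rfl⟩⟩
    refine ⟨k, fun a ha => ?_⟩
    rw [Scheme.IdealSheafData.ideal_pow, Pi.pow_apply] at ha
    have ha' := hk ha
    clear ha
    induction ha' using Submodule.span_induction with
    | mem b hb =>
      obtain ⟨c, hc, rfl⟩ := hb
      have hle' : n c hc ≤ N := le_trans
        (Finset.single_le_sum (f := fun a : t => n a.1 a.2) (fun _ _ => Nat.zero_le _) (Finset.mem_attach t ⟨c, hc⟩))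
        (Nat.le_succ _)
      show c ^ N • m = 0
      rw [← Nat.sub_add_cancel hle', pow_add, mul_smul, hn c hc, smul_zero]
    | zero => exact zero_smul _ _
    | add b c _ _ hb hc => rw [add_smul, hb, hc, add_zero]
    | smul r b _ hb => rw [smul_eq_mul, mul_smul, hb, smul_zero]
  · rintro ⟨n, hn⟩
    refine TopCat.Sheaf.eq_of_locally_eq' (F := ⟨P.presheaf, P.isSheaf⟩)
      (fun a : (E.ideal V : Set Γ(X, V.1)) => X.basicOpen a.1) W (fun a => homOfLE (hle a.1 a.2)) ?_ _ _ fun a => ?_
    · intro x hx
      have hx' := (hWeq x (hW hx)).1 hx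
      rw [Scheme.IdealSheafData.mem_support_iff_of_mem (hW hx), Scheme.mem_zeroLocus_iff] at hx'
      push Not at hx'
      obtain ⟨a, ha, hxa⟩ := hx'
      exact Opens.mem_iSup.2 ⟨⟨a, ha⟩, hxa⟩
    · show res P (hle a.1 a.2) (res P hW m) = res P (hle a.1 a.2) 0
      rw [res_res, res_zero]
      have hu : IsUnit (resO X (X.basicOpen_le a.1) a.1 ^ n) :=
        (RingedSpace.isUnit_res_basicOpen X.toRingedSpace a.1).pow n
      refine hu.smul_eq_zero.1 ?_
      rw [← resO_pow, ← res_smul, hn _ (by
        rw [Scheme.IdealSheafData.ideal_pow, Pi.pow_apply]; exact Ideal.pow_mem_pow a.2 n), res_zero]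

/-- Strict transforms of quasi-coherent modules exist. -/
theorem exists_strictTransform {X X' : Scheme.{u}} (b : X' ⟶ X) (I : X.IdealSheafData)
    (hI : BlowUp.IsFiniteTypeIdeal I) (F : X.Modules) [F.IsQuasicoherent] :
    ∃ (G : X'.Modules) (π : (Scheme.Modules.pullback b).obj F ⟶ G), BlowUp.IsStrictTransform b I F G π := by
  let O : X'.Opens := (BlowUp.exceptional b I).support.compl
  let P := (Scheme.Modules.pullback b).obj F
  haveI : P.IsQuasicoherent := QCPull72.isQuasicoherent_pullback b F
  let η := (Scheme.Modules.restrictAdjunction O.ι).unit.app P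
  refine ⟨Abelian.image η, Abelian.factorThruImage η, inferInstance, fun V m => ?_⟩
  have hmem : ∀ x ∈ V.1, x ∈ O.ι ''ᵁ O.ι ⁻¹ᵁ V.1 ↔ x ∉ (BlowUp.exceptional b I).support := fun x hx => by
    rw [Scheme.Hom.image_preimage_eq_opensRange_inf, Scheme.Opens.opensRange_ι]
    exact ⟨fun h => h.1, fun h => ⟨h, hx⟩⟩
  refine Iff.trans ?_ (killed_iff _ (Div89.isFiniteTypeIdeal_comap b hI) P V m (O.ι.image_preimage_le V.1) hmem)
  have he : res P (O.ι.image_preimage_le V.1) m =
      (Abelian.image.ι η).app V.1 ((Abelian.factorThruImage η).app V.1 m) := by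
    show η.app V.1 m = _
    conv_lhs => rw [← Abelian.image.fac η]
    rfl
  rw [he]
  exact ⟨fun h => (congrArg _ h).trans (map_zero _), fun h => app_injective_of_mono (Abelian.image.ι η) _ (h.trans (map_zero _).symm)⟩

end Groth.Agent.FlatCrit65.Etale
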