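import Groth.Agent.FlatCrit65.Etale.Dominate
import Groth.Agent.FlatCrit65.Etale.ExistsST
import Groth.Agent.FlatCrit65.Etale.Algebra
import Groth.Agent.FlatCrit65.Blow.Main
import Mathlib

/-!
Flattening strict transforms is étale local.
-/

set_option autoImplicit false
set_option linter.style.haveILetI false
set_option backward.isDefEq.respectTransparency.types false

universe u

open CategoryTheory CategoryTheory.Limits AlgebraicGeometry TopologicalSpace Opposite TensorProduct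
open Groth.Agent.QC70 Groth.Agent.QCPull72

noncomputable section

namespace Groth.Agent.FlatCrit65.Etale

open Blow

section

variable {X S X' S' : Scheme.{u}} {f : X ⟶ S} {b : S' ⟶ S} {p₁ : X' ⟶ X} {p₂ : X' ⟶ S'}

theorem isQuasicoherent_strictTransform (H : IsPullback p₁ p₂ f b) (𝓙 : S.IdealSheafData)
    (hb : BlowUp.IsEffCartierIdeal (𝓙.comap b)) (F : X.Modules) [F.IsQuasicoherent] (G : X'.Modules)
    (π : (Scheme.Modules.pullback p₁).obj F ⟶ G) (hG : BlowUp.IsStrictTransform p₁ (𝓙.comap f) F G π) :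
    G.IsQuasicoherent := by
  haveI := isQuasicoherent_pullback p₁ F
  let Sc : ShortComplex X'.Modules := ShortComplex.mk (kernel.ι π) π (kernel.condition π)
  have hS : Sc.ShortExact :=
    { exact := ShortComplex.exact_of_f_is_kernel _ (kernelIsKernel π), epi_g := hG.1 }
  haveI : Sc.X₁.IsQuasicoherent := isQuasicoherent_kernel_strictTransform H 𝓙 hb F G π hG
  haveI : Sc.X₂.IsQuasicoherent := inferInstanceAs ((Scheme.Modules.pullback p₁).obj F).IsQuasicoherent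
  exact isQuasicoherent_X₃ Sc hS

/-- The sections of a strict transform over an affine open where the exceptional ideal is principal. -/
theorem strict_sections (H : IsPullback p₁ p₂ f b) (𝓙 : S.IdealSheafData)
    (hb : BlowUp.IsEffCartierIdeal (𝓙.comap b)) (F : X.Modules) [F.IsQuasicoherent]
    (G : X'.Modules) (π : (Scheme.Modules.pullback p₁).obj F ⟶ G)
    (hG : BlowUp.IsStrictTransform p₁ (𝓙.comap f) F G π) {W' : X'.Opens} (hW' : IsAffineOpen W') (gB : Γ(X', W'))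
    (hideal : (BlowUp.exceptional p₁ (𝓙.comap f)).ideal ⟨W', hW'⟩ = Ideal.span {gB}) :
    Nonempty (ST Γ(X', W') gB Γ((Scheme.Modules.pullback p₁).obj F, W') ≃ₗ[Γ(X', W')] Γ(G, W')) := by
  haveI := isQuasicoherent_pullback p₁ F
  haveI := isQuasicoherent_kernel_strictTransform H 𝓙 hb F G π hG
  let M := Γ((Scheme.Modules.pullback p₁).obj F, W')
  have hkilled : ∀ m : M, π.app W' m = 0 ↔ ∃ n : ℕ, gB ^ n • m = 0 := by
    intro m
    rw [hG.2 ⟨W', hW'⟩ m]
    refine exists_congr fun n => ?_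
    rw [Scheme.IdealSheafData.ideal_pow, Pi.pow_apply, hideal, Ideal.span_singleton_pow]
    exact ⟨fun h => h _ (Ideal.mem_span_singleton_self _), fun h a ha => by
      obtain ⟨c, rfl⟩ := Ideal.mem_span_singleton'.1 ha
      show (c * gB ^ n) • m = 0
      rw [mul_smul, h, smul_zero]⟩
  have hsurj : Function.Surjective (π.app W') := by
    let Sc : ShortComplex X'.Modules := ShortComplex.mk (kernel.ι π) π (kernel.condition π)
    haveI := hG.1
    have hS : Sc.ShortExact :=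
      { exact := ShortComplex.exact_of_f_is_kernel _ (kernelIsKernel π), epi_g := hG.1 }
    exact app_surjective_of_isAffineOpen Sc hS hW'
  let πl : M →ₗ[Γ(X', W')] Γ(G, W') :=
    { toFun := fun m => π.app W' m
      map_add' := fun a b => map_add _ a b
      map_smul' := fun r m => Scheme.Modules.Hom.app_smul π r m }
  have hGreg : IsSMulRegular Γ(G, W') gB := isSMulRegular_iff_right_eq_zero_of_smul.2 fun y hy => by
    obtain ⟨m, rfl⟩ := hsurj y
    change gB • πl m = 0 at hy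
    rw [← map_smul] at hy
    obtain ⟨n, hn⟩ := (hkilled _).1 hy
    exact (hkilled m).2 ⟨n + 1, by rw [pow_succ, mul_smul, hn]⟩
  exact exists_equiv_st (s := gB) πl hsurj (fun x hx => (hkilled x).1 hx) hGreg

end

/-- Flatness at a point from flatness of the localized sections. -/
theorem flatAt_of_localized {X S : Scheme.{u}} (f : X ⟶ S) {M : X.Modules} {U : X.Opens} {V : S.Opens}
    (e : U ≤ f ⁻¹ᵁ V) (hU : IsAffineOpen U) (hV : IsAffineOpen V) (hM : IsLocAt M U) {x : X} (hx : x ∈ U)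
    (h : letI : Algebra Γ(S, V) Γ(X, U) := (f.appLE V U e).hom.toAlgebra
      letI : Module Γ(S, V) Γ(M, U) := Module.compHom _ (f.appLE V U e).hom
      haveI : IsScalarTower Γ(S, V) Γ(X, U) Γ(M, U) := IsScalarTower.of_algebraMap_smul fun _ _ => rfl
      Module.Flat Γ(S, V) (LocalizedModule (hU.primeIdealOf ⟨x, hx⟩).asIdeal.primeCompl Γ(M, U))) :
    FlatMod.IsFlatOverAt f M x := by
  letI : Algebra Γ(S, V) Γ(X, U) := (f.appLE V U e).hom.toAlgebra
  letI : Module Γ(S, V) Γ(M, U) := Module.compHom _ (f.appLE V U e).hom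
  haveI : IsScalarTower Γ(S, V) Γ(X, U) Γ(M, U) := IsScalarTower.of_algebraMap_smul fun r s => rfl
  haveI := h
  letI := stalkModule M hx
  haveI := isLocalizedModule_germ hM hU hx
  letI : Module Γ(S, V) (M.presheaf.stalk x) :=
    Module.compHom _ ((X.presheaf.germ U x hx).hom.comp (f.appLE V U e).hom)
  haveI : IsScalarTower Γ(S, V) Γ(X, U) (M.presheaf.stalk x) :=
    IsScalarTower.of_algebraMap_smul fun r s => rfl
  haveI : Module.Flat Γ(S, V) (M.presheaf.stalk x) :=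
    Module.Flat.of_linearEquiv ((IsLocalizedModule.iso (hU.primeIdealOf ⟨x, hx⟩).asIdeal.primeCompl (germLinear M hx)).restrictScalars Γ(S, V)).symm
  letI : Algebra Γ(S, V) (S.presheaf.stalk (f.base x)) :=
    (S.presheaf.germ V (f.base x) (e hx)).hom.toAlgebra
  haveI : IsLocalization.AtPrime (S.presheaf.stalk (f.base x))
      (hV.primeIdealOf ⟨f.base x, e hx⟩).asIdeal := hV.isLocalization_stalk ⟨f.base x, e hx⟩
  letI := FlatMod.moduleStalkOver f M x
  haveI : IsScalarTower Γ(S, V) (S.presheaf.stalk (f.base x)) (M.presheaf.stalk x) :=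
    IsScalarTower.of_algebraMap_smul fun r s => by
      change (f.stalkMap x).hom (S.presheaf.germ V (f.base x) (e hx) r) • s =
        (X.presheaf.germ U x hx ((f.appLE V U e).hom r)) • s
      rw [FlatMor68.FlatSections.stalkMap_germ_appLE f e hx r]
  exact (Module.flat_iff_of_isLocalization (S.presheaf.stalk (f.base x))
    (hV.primeIdealOf ⟨f.base x, e hx⟩).asIdeal.primeCompl (M.presheaf.stalk x)).mpr inferInstance

/-- Flatness of the strict transform at a point below a point of an étale chart. -/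
theorem flatAt_of_chart {X S X' S' Si Xi Ss : Scheme.{u}} {f : X ⟶ S} {U : S.Opens}
    {p₁ : X' ⟶ X} {p₂ : X' ⟶ S'} {c : S' ⟶ S} (H : IsPullback p₁ p₂ f c) (𝓙 : S.IdealSheafData)
    (hc : BlowUp.IsEffCartierIdeal (𝓙.comap c)) (hJsupp : (𝓙.support : Set S) = (U : Set S)ᶜ)
    (F : X.Modules) [F.IsQuasicoherent] (G : X'.Modules) (π : (Scheme.Modules.pullback p₁).obj F ⟶ G)
    (hG : BlowUp.IsStrictTransform p₁ (𝓙.comap f) F G π)
    (e : Si ⟶ S) [AlgebraicGeometry.Etale e] (j : Xi ⟶ X) [AlgebraicGeometry.Etale j] (fi : Xi ⟶ Si) (hcomm : j ≫ f = fi ≫ e)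
    (I : Si.IdealSheafData) (hI : Disjoint (I.support : Set Si) (e ⁻¹ᵁ U : Set Si)) {b : Ss ⟶ Si}
    (hb : BlowUp.IsEffCartierIdeal (I.comap b)) (hIft : BlowUp.IsFiniteTypeIdeal I)
    (h : pullback e c ⟶ Ss) (hh : h ≫ b = pullback.fst e c)
    (hflat : ∀ (X'' : Scheme.{u}) (q₁ : X'' ⟶ Xi) (q₂ : X'' ⟶ Ss), IsPullback q₁ q₂ fi b →
      ∀ (G : X''.Modules) (π : (Scheme.Modules.pullback q₁).obj ((Scheme.Modules.pullback j).obj F) ⟶ G),
        BlowUp.IsStrictTransform q₁ (I.comap fi) ((Scheme.Modules.pullback j).obj F) G π → FlatMod.IsFlatOver q₂ G)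
    (x' : X') (y : Xi) (hy : j y = p₁ x') : FlatMod.IsFlatOverAt p₂ G x' := by
  haveI := isQuasicoherent_strictTransform H 𝓙 hc F G π hG
  haveI := isQuasicoherent_pullback j F
  let P := pullback j p₁
  obtain ⟨p, hpy, hpx⟩ := Scheme.Pullback.exists_preimage_pullback y x' hy
  let r₁ := pullback.fst j p₁
  let r₂ := pullback.snd j p₁
  let t : P ⟶ pullback e c := pullback.lift (r₁ ≫ fi) (r₂ ≫ p₂) (by
    rw [Category.assoc, ← hcomm, Category.assoc, ← H.w]
    simp only [r₁, r₂, pullback.condition_assoc])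
  have Hbig : IsPullback r₁ (t ≫ pullback.snd e c) (fi ≫ e) c := by
    rw [← hcomm, pullback.lift_snd]
    exact (IsPullback.of_hasPullback j p₁).paste_vert H
  have Ht : IsPullback r₁ t fi (pullback.fst e c) :=
    IsPullback.of_bot Hbig (by simp [t, r₁, pullback.lift_fst]) (IsPullback.of_hasPullback e c)
  -- the chart over the blown-up étale scheme
  let Xs := pullback fi b
  let s₁ := pullback.fst fi b
  let s₂ := pullback.snd fi b
  let q : P ⟶ Xs := pullback.lift r₁ (t ≫ h) (by rw [Category.assoc, hh]; exact Ht.w)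
  have hq₁ : q ≫ s₁ = r₁ := pullback.lift_fst _ _ _
  have hq₂ : q ≫ s₂ = t ≫ h := pullback.lift_snd _ _ _
  have Hq : IsPullback q t s₂ h := by
    refine IsPullback.of_right (h₁₂ := s₁) (h₂₂ := b) (v₁₃ := fi) ?_ hq₂ (IsPullback.of_hasPullback fi b)
    rw [hq₁, hh]
    exact Ht
  have hs : IsPullback s₁ s₂ fi b := IsPullback.of_hasPullback fi b
  obtain ⟨Gs, πs, hGs⟩ := exists_strictTransform s₁ (I.comap fi) (Div89.isFiniteTypeIdeal_comap fi hIft)
    ((Scheme.Modules.pullback j).obj F)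
  have hGsflat := hflat Xs s₁ s₂ hs Gs πs hGs
  haveI := isQuasicoherent_strictTransform hs I hb ((Scheme.Modules.pullback j).obj F) Gs πs hGs
  -- affine opens
  obtain ⟨V, hV, hxV, -⟩ := exists_isAffineOpen_mem_and_subset (show f (p₁ x') ∈ (⊤ : S.Opens) from trivial)
  have hxV' : p₂ x' ∈ c ⁻¹ᵁ V := by
    show c (p₂ x') ∈ V
    rw [← Scheme.Hom.comp_apply, ← H.w, Scheme.Hom.comp_apply]
    exact hxV
  obtain ⟨V', hxV'', hV'le, g, hgz, hg⟩ := MP99.exists_nzd_le hc (p₂ x') hxV'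
  obtain ⟨WX, hWX, hxWX, hWXle⟩ := exists_isAffineOpen_mem_and_subset (show p₁ x' ∈ f ⁻¹ᵁ V from hxV)
  have hfy : fi y ∈ e ⁻¹ᵁ V := by
    show e (fi y) ∈ V
    rw [← Scheme.Hom.comp_apply, ← hcomm, Scheme.Hom.comp_apply, hy]
    exact hxV
  obtain ⟨Vi, hVi, hyVi, hVile⟩ := exists_isAffineOpen_mem_and_subset hfy
  obtain ⟨W, hW, hyW, hWle⟩ := exists_isAffineOpen_mem_and_subset
    (show y ∈ fi ⁻¹ᵁ Vi ⊓ j ⁻¹ᵁ WX from ⟨hyVi, show j y ∈ WX from hy ▸ hxWX⟩)
  have htp : pullback.fst e c (t p) = fi y := by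
    rw [← Scheme.Hom.comp_apply, pullback.lift_fst, Scheme.Hom.comp_apply, hpy]
  have htp' : pullback.snd e c (t p) = p₂ x' := by
    rw [← Scheme.Hom.comp_apply, pullback.lift_snd, Scheme.Hom.comp_apply, hpx]
  have hqp₁ : s₁ (q p) = y := by rw [← Scheme.Hom.comp_apply, hq₁]; exact hpy
  have hqp₂ : s₂ (q p) ∈ b ⁻¹ᵁ Vi := by
    show b (s₂ (q p)) ∈ Vi
    rw [← Scheme.Hom.comp_apply, ← hs.w, Scheme.Hom.comp_apply, hqp₁]
    exact hyVi
  obtain ⟨Vs, hqVs, hVsle, gs, -, hgs⟩ := MP99.exists_nzd_le hb (s₂ (q p)) hqp₂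
  obtain ⟨Q, hQ, htQ, hQle⟩ := exists_isAffineOpen_mem_and_subset
    (show t p ∈ pullback.snd e c ⁻¹ᵁ V'.1 ⊓ h ⁻¹ᵁ Vs.1 from
      ⟨show pullback.snd e c (t p) ∈ V'.1 from htp' ▸ hxV'',
       show h (t p) ∈ Vs.1 from by rw [← Scheme.Hom.comp_apply, ← hq₂]; exact hqVs⟩)
  let Ws := s₁ ⁻¹ᵁ W ⊓ s₂ ⁻¹ᵁ Vs.1
  have hWs : IsAffineOpen Ws := isAffineOpen_chart hs hVi hW (hWle.trans inf_le_left) Vs.2 hVsle
  let W' := p₁ ⁻¹ᵁ WX ⊓ p₂ ⁻¹ᵁ V'.1
  have hW' : IsAffineOpen W' := isAffineOpen_chart H hV hWX hWXle V'.2 hV'le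
  have hQVs : Q ≤ h ⁻¹ᵁ Vs.1 := hQle.trans inf_le_right
  have hWss : Ws ≤ s₂ ⁻¹ᵁ Vs.1 := inf_le_right
  let W'' := q ⁻¹ᵁ Ws ⊓ t ⁻¹ᵁ Q
  have hW'' : IsAffineOpen W'' := isAffineOpen_chart Hq Vs.2 hWs hWss hQ hQVs
  have hpW'' : p ∈ W'' := ⟨⟨show s₁ (q p) ∈ W from hqp₁.symm ▸ hyW, hqVs⟩, htQ⟩
  have hQV' : Q ≤ pullback.snd e c ⁻¹ᵁ V'.1 := hQle.trans inf_le_left
  have hW''W' : W'' ≤ r₂ ⁻¹ᵁ W' := fun z hz => by
    refine ⟨?_, ?_⟩
    · show p₁ (r₂ z) ∈ WX
      rw [← Scheme.Hom.comp_apply, show r₂ ≫ p₁ = r₁ ≫ j from pullback.condition.symm, Scheme.Hom.comp_apply, ← hq₁,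
        Scheme.Hom.comp_apply]
      exact (hWle hz.1.1).2
    · show p₂ (r₂ z) ∈ V'.1
      rw [← Scheme.Hom.comp_apply, ← show t ≫ pullback.snd e c = r₂ ≫ p₂ from pullback.lift_snd _ _ _,
        Scheme.Hom.comp_apply]
      exact hQV' hz.2
  have hxW' : x' ∈ W' := hpx ▸ hW''W' hpW''
  have hWs₁ : Ws ≤ (s₁ ≫ j) ⁻¹ᵁ WX := fun z hz => by
    show (s₁ ≫ j) z ∈ WX
    rw [Scheme.Hom.comp_apply]
    exact (hWle hz.1).2
  -- rings
  let A := Γ(S', V'.1)
  let B := Γ(X', W')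
  let As := Γ(Ss, Vs.1)
  let Bs := Γ(Xs, Ws)
  let A' := Γ(pullback e c, Q)
  let B' := Γ(P, W'')
  let R := Γ(X, WX)
  letI : Algebra A B := (p₂.appLE V'.1 W' inf_le_right).hom.toAlgebra
  letI : Algebra As Bs := (s₂.appLE Vs.1 Ws hWss).hom.toAlgebra
  letI : Algebra A A' := ((pullback.snd e c).appLE V'.1 Q hQV').hom.toAlgebra
  letI : Algebra As A' := (h.appLE Vs.1 Q hQVs).hom.toAlgebra
  letI : Algebra A' B' := (t.appLE Q W'' inf_le_right).hom.toAlgebra
  letI : Algebra Bs B' := (q.appLE Ws W'' inf_le_left).hom.toAlgebra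
  letI : Algebra As B' := (s₂.appLE Vs.1 Ws hWss ≫ q.appLE Ws W'' inf_le_left).hom.toAlgebra
  letI : Algebra B B' := (r₂.appLE W' W'' hW''W').hom.toAlgebra
  letI : Algebra A B' := (p₂.appLE V'.1 W' inf_le_right ≫ r₂.appLE W' W'' hW''W').hom.toAlgebra
  letI : Algebra R B := (p₁.appLE WX W' inf_le_left).hom.toAlgebra
  letI : Algebra R Bs := ((s₁ ≫ j).appLE WX Ws hWs₁).hom.toAlgebra
  letI : Algebra R B' := (p₁.appLE WX W' inf_le_left ≫ r₂.appLE W' W'' hW''W').hom.toAlgebra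
  haveI : IsScalarTower As Bs B' := .of_algebraMap_eq' rfl
  haveI : IsScalarTower A B B' := .of_algebraMap_eq' rfl
  haveI : IsScalarTower R B B' := .of_algebraMap_eq' rfl
  have hpo := isPushout_chart Hq Vs.2 hWs hWss hQ hQVs
  haveI : IsScalarTower As A' B' := .of_algebraMap_eq' (congrArg CommRingCat.Hom.hom hpo.w)
  haveI : Algebra.IsPushout As A' Bs B' := (CommRingCat.isPushout_iff_isPushout).1 hpo.flip
  haveI : IsScalarTower A A' B' := .of_algebraMap_eq' (congrArg CommRingCat.Hom.hom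
    (show p₂.appLE V'.1 W' inf_le_right ≫ r₂.appLE W' W'' hW''W' =
      (pullback.snd e c).appLE V'.1 Q hQV' ≫ t.appLE Q W'' inf_le_right by
      rw [Scheme.Hom.appLE_comp_appLE, Scheme.Hom.appLE_comp_appLE]
      simp [t, r₂, pullback.lift_snd]))
  haveI : IsScalarTower R Bs B' := .of_algebraMap_eq' (congrArg CommRingCat.Hom.hom
    (show p₁.appLE WX W' inf_le_left ≫ r₂.appLE W' W'' hW''W' =
      (s₁ ≫ j).appLE WX Ws hWs₁ ≫ q.appLE Ws W'' inf_le_left by
      rw [Scheme.Hom.appLE_comp_appLE, Scheme.Hom.appLE_comp_appLE]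
      simp only [reassoc_of% hq₁]
      congr 1
      exact pullback.condition.symm))
  haveI : Module.Flat A A' := Scheme.Hom.flat_appLE _ V'.2 hQ hQV'
  haveI : Module.Flat B B' := r₂.flat_appLE hW' hW'' hW''W'
  -- the exceptional ideals
  let g' : A' := algebraMap A A' g
  have hg' : IsSMulRegular A' g' := by
    refine isSMulRegular_iff_right_eq_zero_of_smul.2 fun z hz => ?_
    have hgreg : IsSMulRegular A g := isSMulRegular_iff_right_eq_zero_of_smul.2 fun y hy =>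
      (mul_right_mem_nonZeroDivisors_eq_zero_iff hgz).1 (by rw [mul_comm]; exact hy)
    have h2 : IsSMulRegular A' g := (TensorProduct.rid A A').isSMulRegular_congr g |>.1 (hgreg.lTensor A')
    refine h2.right_eq_zero_of_smul ?_
    rw [Algebra.smul_def]
    exact hz
  have hdvd : ∃ k : ℕ, algebraMap As A' gs ∣ g' ^ k := by
    let E := (I.comap b).comap h
    have hE : E.ideal ⟨Q, hQ⟩ = Ideal.span {algebraMap As A' gs} := by
      rw [MP99.ideal_comap _ h Vs ⟨Q, hQ⟩ hQVs, hgs, Ideal.map_span, Set.image_singleton]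
      rfl
    have hmem := mem_radical_of_disjoint E (U := pullback.snd e c ⁻¹ᵁ c ⁻¹ᵁ U) ?_ hQ (g := g') ?_
    · obtain ⟨k, hk⟩ := hmem
      rw [hE, Ideal.mem_span_singleton] at hk
      exact ⟨k, hk⟩
    · refine Set.disjoint_left.2 fun z hz hzU => ?_
      simp only [E, ← Scheme.IdealSheafData.comap_comp, hh, Scheme.IdealSheafData.support_comap] at hz
      refine Set.disjoint_left.1 hI hz ?_
      show e (pullback.fst e c z) ∈ U
      rw [← Scheme.Hom.comp_apply, pullback.condition, Scheme.Hom.comp_apply]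
      exact hzU
    · intro z hz
      show c (pullback.snd e c z) ∈ U
      have hz' : pullback.snd e c z ∈ S'.basicOpen g := by
        have := (Scheme.basicOpen_appLE (pullback.snd e c) Q V'.1 hQV' g).le hz
        exact this.2
      by_contra hzU
      have hsupp : pullback.snd e c z ∈ (𝓙.comap c).support := by
        rw [Scheme.IdealSheafData.support_comap]
        exact hJsupp.ge hzU
      rw [Scheme.IdealSheafData.mem_support_iff] at hsupp
      exact (Scheme.mem_zeroLocus_iff _ _ _).1 (hsupp V') g (hg ▸ Ideal.mem_span_singleton_self g) hz'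
  -- the modules
  let N := Γ(F, WX)
  let M := Γ((Scheme.Modules.pullback p₁).obj F, W')
  let Ms := Γ((Scheme.Modules.pullback s₁).obj ((Scheme.Modules.pullback j).obj F), Ws)
  let EM : M ≃ₗ[B] B ⊗[R] N := sectionsPullbackEquiv p₁ F hWX hW' inf_le_left
  letI : Algebra R Γ(Xi, W) := (j.appLE WX W (hWle.trans inf_le_right)).hom.toAlgebra
  letI : Algebra Γ(Xi, W) Bs := (s₁.appLE W Ws inf_le_left).hom.toAlgebra
  haveI : IsScalarTower R Γ(Xi, W) Bs := .of_algebraMap_eq' (congrArg CommRingCat.Hom.hom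
    (show (s₁ ≫ j).appLE WX Ws hWs₁ = j.appLE WX W (hWle.trans inf_le_right) ≫ s₁.appLE W Ws inf_le_left by
      rw [Scheme.Hom.appLE_comp_appLE]))
  let EMs : Ms ≃ₗ[Bs] Bs ⊗[R] N :=
    (sectionsPullbackEquiv s₁ ((Scheme.Modules.pullback j).obj F) hW hWs inf_le_left) ≪≫ₗ
      LinearEquiv.baseChange Γ(Xi, W) Bs _ _ (sectionsPullbackEquiv j F hWX hW (hWle.trans inf_le_right)) ≪≫ₗ
      AlgebraTensorModule.cancelBaseChange R Γ(Xi, W) Bs Bs N
  obtain ⟨eG⟩ := strict_sections H 𝓙 hc F G π hG hW' (algebraMap A B g)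
    (exceptional_ideal_chart H 𝓙 V'.2 hW' hg)
  obtain ⟨eGs⟩ := strict_sections hs I hb ((Scheme.Modules.pullback j).obj F) Gs πs hGs hWs (algebraMap As Bs gs)
    (exceptional_ideal_chart hs I Vs.2 hWs hgs)
  letI : Module As Γ(Gs, Ws) := Module.compHom _ (s₂.appLE Vs.1 Ws hWss).hom
  haveI : IsScalarTower As Bs Γ(Gs, Ws) := IsScalarTower.of_algebraMap_smul fun _ _ => rfl
  haveI : Module.Flat As Γ(Gs, Ws) := FlatMor68.FlatSections.flat_sections s₂ hWss hWs Vs.2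
    (isLocAt_of_isQuasicoherent Gs hWs) fun x _ => hGsflat x
  letI : Module As Ms := Module.compHom _ (s₂.appLE Vs.1 Ws hWss).hom
  haveI : IsScalarTower As Bs Ms := IsScalarTower.of_algebraMap_smul fun _ _ => rfl
  have h₁ : Module.Flat As (ST Bs (algebraMap As Bs gs) Ms) :=
    Module.Flat.of_linearEquiv (eGs.restrictScalars As)
  have h₂ := flat_st_baseChange (A := As) (A' := A') (B := Bs) (B' := B') gs g' hg' hdvd Ms h₁
  letI : Module A Γ(G, W') := Module.compHom _ (p₂.appLE V'.1 W' inf_le_right).hom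
  haveI : IsScalarTower A B Γ(G, W') := IsScalarTower.of_algebraMap_smul fun _ _ => rfl
  let eN : B' ⊗[Bs] Ms ≃ₗ[B'] B' ⊗[B] M :=
    LinearEquiv.baseChange Bs B' _ _ EMs ≪≫ₗ AlgebraTensorModule.cancelBaseChange R Bs B' B' N ≪≫ₗ
      (AlgebraTensorModule.cancelBaseChange R B B' B' N).symm ≪≫ₗ (LinearEquiv.baseChange B B' _ _ EM).symm
  have h₃ := flat_localized_of_st (A := A) (B := B) (A' := A') (B' := B') g M Γ(G, W') eG (B' ⊗[Bs] Ms) eN h₂
    (hW''.primeIdealOf ⟨p, hpW''⟩).asIdeal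
  refine flatAt_of_localized p₂ (inf_le_right : W' ≤ p₂ ⁻¹ᵁ V'.1) hW' V'.2 (isLocAt_of_isQuasicoherent G hW') hxW' ?_
  have hprime : (hW''.primeIdealOf ⟨p, hpW''⟩).asIdeal.comap (algebraMap B B') =
      (hW'.primeIdealOf ⟨x', hxW'⟩).asIdeal := by
    have := congr($(IsAffineOpen.comap_primeIdealOf_appLE (f := r₂) W' hW' W'' hW'' hW''W' hpW'').1)
    refine this.trans ?_
    congr 2
    exact Subtype.ext hpx
  convert h₃ using 3 <;> exact hprime.symm

/-- Flattening strict transforms is étale local. -/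
theorem exists_flattening_etale_local {X S : Scheme.{u}} [CompactSpace S] [QuasiSeparatedSpace S]
    (f : X ⟶ S) (F : X.Modules) (hqc : Coh.IsQCoh F) (U : S.Opens) (hU : IsCompact (U : Set S))
    {k : ℕ} (Si Xi : Fin k → Scheme.{u}) (e : ∀ i, Si i ⟶ S) (j : ∀ i, Xi i ⟶ X) (fi : ∀ i, Xi i ⟶ Si i)
    [∀ i, AlgebraicGeometry.Etale (e i)] [∀ i, QuasiCompact (e i)] [∀ i, AlgebraicGeometry.Etale (j i)]
    (hcovX : ∀ x : X, ∃ i y, (j i).base y = x)
    (hcomm : ∀ i, j i ≫ f = fi i ≫ e i)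
    (𝓘 : ∀ i, (Si i).IdealSheafData) (Sst : Fin k → Scheme.{u}) (b : ∀ i, Sst i ⟶ Si i)
    (hb : ∀ i, BlowUp.IsBlowUp (b i) (𝓘 i) ∧ BlowUp.IsAdmissibleFor ((e i) ⁻¹ᵁ U) (𝓘 i))
    (hflat : ∀ i (X' : Scheme.{u}) (p₁ : X' ⟶ Xi i) (p₂ : X' ⟶ Sst i), IsPullback p₁ p₂ (fi i) (b i) →
      ∀ (G : X'.Modules) (π : (Scheme.Modules.pullback p₁).obj ((Scheme.Modules.pullback (j i)).obj F) ⟶ G),
        BlowUp.IsStrictTransform p₁ ((𝓘 i).comap (fi i)) ((Scheme.Modules.pullback (j i)).obj F) G π → FlatMod.IsFlatOver p₂ G) :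
    ∃ (𝓙 : S.IdealSheafData) (S' : Scheme.{u}) (b' : S' ⟶ S), BlowUp.IsBlowUp b' 𝓙 ∧ BlowUp.IsAdmissibleFor U 𝓙 ∧
      ∀ (X' : Scheme.{u}) (p₁ : X' ⟶ X) (p₂ : X' ⟶ S'), IsPullback p₁ p₂ f b' →
      ∀ (G : X'.Modules) (π : (Scheme.Modules.pullback p₁).obj F ⟶ G),
        BlowUp.IsStrictTransform p₁ (𝓙.comap f) F G π → FlatMod.IsFlatOver p₂ G := by
  haveI : F.IsQuasicoherent := hqc
  obtain ⟨J, S', c, hc, hJ, hsupp, hdom⟩ := exists_dominating_etale_family U hU Si Sst e b 𝓘 hb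
  refine ⟨J, S', c, hc, hJ, fun X' p₁ p₂ H G π hG x' => ?_⟩
  obtain ⟨i, y, hy⟩ := hcovX (p₁ x')
  obtain ⟨h, hh⟩ := hdom i
  exact flatAt_of_chart H J hc.1 hsupp F G π hG (e i) (j i) (fi i) (hcomm i) (𝓘 i) (hb i).2.2 (hb i).1.1 (hb i).2.1
    h hh (hflat i) x' y hy

end Groth.Agent.FlatCrit65.Etale
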